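import Cfsg.Agent.Lib.PrimeElusive.Tensor
import Cfsg.Agent.KsAltRank

/-!
Kronecker factors of isometries of odd prime order of tensor forms, and ranks of `K - 1` for them.
-/

set_option autoImplicit false
set_option linter.unusedSectionVars false

namespace CfsgLib.TensorSympOrth

open Matrix Module
open scoped Kronecker MatrixGroups

variable {F : Type*} [Field F] {a b : ℕ}

theorem kron_eq_one [NeZero a] [NeZero b] {A : Matrix (Fin a) (Fin a) F} {B : Matrix (Fin b) (Fin b) F}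
    (h : A ⊗ₖ B = 1) : ∃ s : F, s ≠ 0 ∧ A = s • 1 ∧ B = s⁻¹ • 1 := by
  have e : ∀ i i' j j', A i i' * B j j' = (1 : Matrix (Fin a) (Fin a) F) i i' * (1 : Matrix (Fin b) (Fin b) F) j j' := by
    intro i i' j j'
    have := congrFun (congrFun h (i, j)) (i', j')
    rw [← Matrix.one_kronecker_one] at this
    simpa using this
  have h0 := e 0 0 0 0
  simp only [Matrix.one_apply_eq, mul_one] at h0
  have hs : A 0 0 ≠ 0 := fun h' => by simp [h'] at h0
  have hB : ∀ j j', B j j' = (A 0 0)⁻¹ * (1 : Matrix (Fin b) (Fin b) F) j j' := fun j j' => by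
    have := e 0 0 j j'
    rw [Matrix.one_apply_eq, one_mul] at this
    rw [← this, inv_mul_cancel_left₀ hs]
  refine ⟨A 0 0, hs, ?_, Matrix.ext fun j j' => by rw [hB]; rfl⟩
  ext i i'
  have := e i i' 0 0
  rw [hB, Matrix.one_apply_eq, mul_one, mul_one] at this
  rw [Matrix.smul_apply, smul_eq_mul, ← this]
  field_simp

theorem kron_eq [NeZero a] [NeZero b] {A C : Matrix (Fin a) (Fin a) F} {B D : Matrix (Fin b) (Fin b) F}
    (hC : IsUnit C.det) (hD : IsUnit D.det) (h : A ⊗ₖ B = C ⊗ₖ D) :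
    ∃ l : F, l ≠ 0 ∧ A = l • C ∧ B = l⁻¹ • D := by
  have h1 : (C⁻¹ * A) ⊗ₖ (D⁻¹ * B) = 1 := by
    rw [Matrix.mul_kronecker_mul, h, ← Matrix.mul_kronecker_mul, Matrix.nonsing_inv_mul _ hC,
      Matrix.nonsing_inv_mul _ hD, Matrix.one_kronecker_one]
  obtain ⟨l, hl, e1, e2⟩ := kron_eq_one h1
  refine ⟨l, hl, ?_, ?_⟩
  · rw [← Matrix.mul_nonsing_inv_cancel_left (A := C) A hC, e1, Matrix.mul_smul, mul_one]
  · rw [← Matrix.mul_nonsing_inv_cancel_left (A := D) B hD, e2, Matrix.mul_smul, mul_one]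

theorem kron_pow (g : Matrix (Fin a) (Fin a) F) (h : Matrix (Fin b) (Fin b) F) (m : ℕ) :
    (g ⊗ₖ h) ^ m = (g ^ m) ⊗ₖ (h ^ m) := by
  induction m with
  | zero => simp
  | succ m ih => rw [pow_succ, ih, ← Matrix.mul_kronecker_mul, ← pow_succ, ← pow_succ]

/-- The scalars can be distributed so that both factors are isometries of order dividing `r`. -/
theorem exists_isom_factors [NeZero a] [NeZero b] {G₁ : Matrix (Fin a) (Fin a) F} {G₂ : Matrix (Fin b) (Fin b) F}
    (h₁ : IsUnit G₁.det) (h₂ : IsUnit G₂.det) {r : ℕ} (hr : Odd r)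
    {g : Matrix (Fin a) (Fin a) F} {h : Matrix (Fin b) (Fin b) F} (hpow : (g ⊗ₖ h) ^ r = 1)
    (hiso : (g ⊗ₖ h)ᵀ * (G₁ ⊗ₖ G₂) * (g ⊗ₖ h) = G₁ ⊗ₖ G₂) :
    ∃ (g' : Matrix (Fin a) (Fin a) F) (h' : Matrix (Fin b) (Fin b) F), g ⊗ₖ h = g' ⊗ₖ h' ∧ g' ^ r = 1 ∧
      h' ^ r = 1 ∧ g'ᵀ * G₁ * g' = G₁ ∧ h'ᵀ * G₂ * h' = G₂ := by
  rw [kron_pow] at hpow
  obtain ⟨s, hs, hgs, hhs⟩ := kron_eq_one hpow
  rw [← Matrix.kroneckerMap_transpose, ← Matrix.mul_kronecker_mul, ← Matrix.mul_kronecker_mul] at hiso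
  obtain ⟨l, hl, hgl, hhl⟩ := kron_eq h₁ h₂ hiso
  have hn : ∀ n : ℕ, (g ^ n)ᵀ * G₁ * g ^ n = l ^ n • G₁ := by
    intro n
    induction n with
    | zero => simp
    | succ n ih =>
      rw [pow_succ, Matrix.transpose_mul, show gᵀ * (g ^ n)ᵀ * G₁ * (g ^ n * g) = gᵀ * ((g ^ n)ᵀ * G₁ * g ^ n) * g by
        simp only [mul_assoc], ih, Matrix.mul_smul, Matrix.smul_mul, hgl, smul_smul, pow_succ]
  have hs2 : s * s = l ^ r := by
    have h' := hn r
    rw [hgs, Matrix.transpose_smul, Matrix.transpose_one, Matrix.smul_mul, one_mul, Matrix.mul_smul, mul_one,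
      smul_smul] at h'
    exact smul_left_injective F (fun h0 : G₁ = 0 => h₁.ne_zero (by rw [h0, Matrix.det_zero])) h'
  obtain ⟨m, rfl⟩ := hr
  set μ := s / l ^ m with hμdef
  have hμ : μ ≠ 0 := div_ne_zero hs (pow_ne_zero _ hl)
  have hμ2 : μ * μ = l := by
    rw [hμdef, div_mul_div_comm, hs2, pow_succ, pow_mul, pow_two, mul_pow]
    field_simp
  have hμr : μ ^ (2 * m + 1) = s := by
    rw [pow_succ, pow_mul, pow_two, hμ2, hμdef, mul_div_cancel₀ _ (pow_ne_zero _ hl)]
  refine ⟨μ⁻¹ • g, μ • h, ?_, ?_, ?_, ?_, ?_⟩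
  · rw [Matrix.smul_kronecker, Matrix.kronecker_smul, smul_smul, inv_mul_cancel₀ hμ, one_smul]
  · rw [_root_.smul_pow, hgs, smul_smul, inv_pow, hμr, inv_mul_cancel₀ hs, one_smul]
  · rw [_root_.smul_pow, hhs, smul_smul, hμr, mul_inv_cancel₀ hs, one_smul]
  · rw [Matrix.transpose_smul, Matrix.smul_mul, Matrix.smul_mul, Matrix.mul_smul, hgl, smul_smul, smul_smul,
      ← mul_inv, hμ2, inv_mul_cancel₀ hl, one_smul]
  · rw [Matrix.transpose_smul, Matrix.smul_mul, Matrix.smul_mul, Matrix.mul_smul, hhl, smul_smul, smul_smul,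
      hμ2, mul_inv_cancel₀ hl, one_smul]

/-- The moved space of an isometry of odd order has even dimension. -/
theorem even_rank_sub_one {κ : Type*} [Fintype κ] [DecidableEq κ] (h2 : (2 : F) ≠ 0) {G h : Matrix κ κ F}
    (hG : IsUnit G.det) (hsym : Gᵀ = G ∨ Gᵀ = -G) {r : ℕ} (hr0 : (r : F) ≠ 0) (hr : Odd r) (hh : h ^ r = 1)
    (hiso : hᵀ * G * h = G) : Even (h - 1).rank := by
  obtain ⟨m, rfl⟩ := hr
  set h1 := h ^ (2 * m) with h1def
  have hinv : h * h1 = 1 := by rw [h1def, ← pow_succ', hh]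
  have hinv' : h1 * h = 1 := by rw [h1def, ← pow_succ, hh]
  have e1 : hᵀ * G = G * h1 := by
    calc hᵀ * G = hᵀ * G * (h * h1) := by rw [hinv, mul_one]
      _ = G * h1 := by rw [← mul_assoc, hiso]
  have e2 : h1ᵀ * G = G * h := by
    calc h1ᵀ * G = h1ᵀ * (hᵀ * G * h) := by rw [hiso]
      _ = (h * h1)ᵀ * G * h := by rw [Matrix.transpose_mul]; simp only [mul_assoc]
      _ = G * h := by rw [hinv, Matrix.transpose_one, one_mul]
  have alt : ∀ N : Matrix κ κ F, (G * N)ᵀ = -(G * N) → Even N.rank := by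
    intro N hN
    rw [← Matrix.rank_mul_eq_right_of_isUnit_det _ N hG]
    refine Cfsg.Agent.KsAltRank.even_rank _ fun v => ?_
    have h' : v ⬝ᵥ ((G * N) *ᵥ v) = -(v ⬝ᵥ ((G * N) *ᵥ v)) := by
      conv_lhs => rw [Matrix.dotProduct_mulVec, ← Matrix.mulVec_transpose, hN, Matrix.neg_mulVec, neg_dotProduct,
        dotProduct_comm]
    exact (mul_eq_zero.1 (show (2 : F) * (v ⬝ᵥ ((G * N) *ᵥ v)) = 0 by linear_combination h')).resolve_left h2
  rcases hsym with hs | hs
  · have hN := alt (h - h1) (by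
      rw [Matrix.transpose_mul, hs, Matrix.transpose_sub, sub_mul, e1, e2, ← mul_sub, ← mul_neg, neg_sub])
    have hle : (h - h1).rank ≤ (h - 1).rank := by
      have : h - h1 = h1 * (h + 1) * (h - 1) := by
        calc h - h1 = h1 * (h * h) - h1 := by rw [← mul_assoc, hinv', one_mul]
          _ = h1 * (h + 1) * (h - 1) := by noncomm_ring
      rw [this]; exact Matrix.rank_mul_le_right _ _
    have hge : (h - 1).rank ≤ (h - h1).rank := by
      have key : h - 1 = (∑ j ∈ Finset.range (m + 1), (h * h) ^ j) * h * (h - h1) := by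
        rw [mul_assoc, mul_sub, hinv, geom_sum_mul, ← pow_two, ← pow_mul,
          show 2 * (m + 1) = (2 * m + 1) + 1 by ring, pow_succ, hh, one_mul]
      calc (h - 1).rank = ((∑ j ∈ Finset.range (m + 1), (h * h) ^ j) * h * (h - h1)).rank := congrArg _ key
        _ ≤ _ := Matrix.rank_mul_le_right _ _
    rwa [le_antisymm hle hge] at hN
  · have hN := alt (h + h1 - 1 - 1) (by
      rw [Matrix.transpose_mul, Matrix.transpose_sub, Matrix.transpose_sub, Matrix.transpose_add, hs,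
        Matrix.transpose_one, mul_neg, sub_mul, sub_mul, add_mul, e1, e2]
      noncomm_ring)
    have hle : (h + h1 - 1 - 1).rank ≤ (h - 1).rank := by
      have : h + h1 - 1 - 1 = h1 * (h - 1) * (h - 1) := by
        calc h + h1 - 1 - 1 = h1 * h * h - h1 * h - h1 * h + h1 := by rw [hinv', one_mul]; abel
          _ = h1 * (h - 1) * (h - 1) := by noncomm_ring
      rw [this]; exact Matrix.rank_mul_le_right _ _
    have hge : (h - 1).rank ≤ (h + h1 - 1 - 1).rank := by
      set U := ∑ j ∈ Finset.range (2 * m + 1), ∑ k ∈ Finset.range j, h ^ k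
      have hU : U * (h - 1) = ∑ j ∈ Finset.range (2 * m + 1), h ^ j - ((2 * m + 1 : ℕ) : F) • 1 := by
        rw [Finset.sum_mul]
        simp only [geom_sum_mul]
        rw [Finset.sum_sub_distrib, Finset.sum_const, Finset.card_range, Nat.cast_smul_eq_nsmul]
      have key : ((2 * m + 1 : ℕ) : F) • (h - 1) = -(U * h) * (h + h1 - 1 - 1) := by
        have hsq : h * (h + h1 - 1 - 1) = (h - 1) * (h - 1) := by
          rw [mul_sub, mul_sub, mul_add, hinv]; noncomm_ring
        rw [neg_mul, mul_assoc, hsq, ← mul_assoc, hU, sub_mul, geom_sum_mul, hh, sub_self, zero_sub, neg_neg,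
          Matrix.smul_mul, one_mul]
      have key2 : h - 1 = ((((2 * m + 1 : ℕ) : F))⁻¹ • -(U * h)) * (h + h1 - 1 - 1) := by
        rw [Matrix.smul_mul, ← key, smul_smul, inv_mul_cancel₀ hr0, one_smul]
      calc (h - 1).rank = (((((2 * m + 1 : ℕ) : F))⁻¹ • -(U * h)) * (h + h1 - 1 - 1)).rank := congrArg _ key2
        _ ≤ _ := Matrix.rank_mul_le_right _ _
    rwa [le_antisymm hle hge] at hN

variable [Fintype F] {r q i c : ℕ} [Fact r.Prime]

/-- The moved space of an isometry of order `r` has dimension a multiple of `c`. -/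
theorem c_dvd_rank (hq : Fintype.card F = q) (hi : i = orderOf (q : ZMod r)) (hc : c = if Even i then i else 2 * i)
    (h2 : (2 : F) ≠ 0) (hr0 : (r : F) ≠ 0) (hr : Odd r) {κ : Type*} [Fintype κ] [DecidableEq κ]
    {G h : Matrix κ κ F} (hG : IsUnit G.det) (hsym : Gᵀ = G ∨ Gᵀ = -G) (hh : h ^ r = 1)
    (hiso : hᵀ * G * h = G) : c ∣ (h - 1).rank := by
  have h1 : i ∣ (h - 1).rank := hi ▸ PrimeElusive.Tensor.dvd_rank hq hr0 hh
  have h2' := even_rank_sub_one h2 hG hsym hr0 hr hh hiso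
  rw [hc]
  split_ifs with he
  · exact h1
  · exact Nat.Coprime.mul_dvd_of_dvd_of_dvd (Nat.coprime_two_left.2 (Nat.not_even_iff_odd.1 he)) h2'.two_dvd h1

theorem rank_swap (A : Matrix (Fin a) (Fin a) F) (B : Matrix (Fin b) (Fin b) F) :
    (A ⊗ₖ B - 1).rank = (B ⊗ₖ A - 1).rank := by
  have : B ⊗ₖ A - 1 = Matrix.reindex (Equiv.prodComm _ _) (Equiv.prodComm _ _) (A ⊗ₖ B - 1) := by
    ext ⟨j, i⟩ ⟨j', i'⟩
    simp [Matrix.one_apply, Prod.ext_iff, mul_comm, and_comm]
  rw [this, Matrix.rank_reindex]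

theorem rank_one_left (h : Matrix (Fin b) (Fin b) F) :
    ((1 : Matrix (Fin a) (Fin a) F) ⊗ₖ h - 1).rank = a * (h - 1).rank := by
  rw [← PrimeElusive.Tensor.rank_one_kronecker]
  congr 1
  ext ⟨i, j⟩ ⟨i', j'⟩
  by_cases hi : i = i' <;> by_cases hj : j = j' <;> simp [hi, hj]

/-- A space of dimension at most twice `i` with an element of order `r` without fixed vectors is generated by
two vectors. -/
theorem exists_two_generators (hq : Fintype.card F = q) (hi : i = orderOf (q : ZMod r)) {V : Type*} [AddCommGroup V]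
    [Module F V] [FiniteDimensional F V] (T : Module.End F V) (hT : T ^ r = 1) (hfix : ∀ v, T v = v → v = 0)
    (hdim : finrank F V ≤ 2 * i) :
    ∃ v w : V, ∀ U : Submodule F V, U.map T ≤ U → v ∈ U → w ∈ U → U = ⊤ := by
  by_cases hne : ∃ v : V, v ≠ 0
  · obtain ⟨v, hv⟩ := hne
    let W := sInf {U : Submodule F V | U.map T ≤ U ∧ v ∈ U}
    have hvW : v ∈ W := Submodule.mem_sInf.2 fun U hU => hU.2
    have hWi : W.map T ≤ W := le_sInf fun U hU => (Submodule.map_mono (sInf_le hU)).trans hU.1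
    by_cases hW : W = ⊤
    · exact ⟨v, v, fun U h1 h2 _ => top_unique (hW ▸ sInf_le ⟨h1, h2⟩)⟩
    · obtain ⟨w, hw⟩ : ∃ w, w ∉ W := by
        by_contra h; push Not at h; exact hW (Submodule.eq_top_iff'.2 h)
      refine ⟨v, w, fun U h1 h2 h3 => Submodule.eq_top_of_finrank_eq (le_antisymm (Submodule.finrank_le _) ?_)⟩
      have hlt : W < U := lt_of_le_of_ne (sInf_le ⟨h1, h2⟩) fun e => hw (e ▸ h3)
      have hlt' := Submodule.finrank_lt_finrank_of_lt hlt
      obtain ⟨k, hk⟩ := OrderR.orderOf_dvd_finrank T hq hT W hWi fun x _ => hfix x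
      obtain ⟨l, hl⟩ := OrderR.orderOf_dvd_finrank T hq hT U h1 fun x _ => hfix x
      have hk0 : 0 < finrank F W := Module.finrank_pos_iff_exists_ne_zero.2 ⟨⟨v, hvW⟩, fun e => hv (congrArg Subtype.val e)⟩
      rw [← hi] at hk hl
      have hk1 : 1 ≤ k := Nat.pos_of_ne_zero fun e => by rw [e, mul_zero] at hk; omega
      have hl2 : 2 ≤ l := by
        by_contra h
        have : i * l ≤ i * k := Nat.mul_le_mul_left i (by omega)
        omega
      calc finrank F V ≤ i * 2 := by omega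
        _ ≤ i * l := Nat.mul_le_mul_left i hl2
        _ = finrank F U := hl.symm
  · push Not at hne
    exact ⟨0, 0, fun U _ _ _ => Submodule.eq_top_iff'.2 fun x => by rw [hne x]; exact U.zero_mem⟩

/-- Few vectors are fixed by a product of two factors without fixed vectors. -/
theorem finrank_fixed_le (hq : Fintype.card F = q) (hi : i = orderOf (q : ZMod r)) (hb : b ≤ 2 * i)
    {g : Matrix (Fin a) (Fin a) F} {h : Matrix (Fin b) (Fin b) F} (hg : g ^ r = 1) (hh : h ^ r = 1)
    (hfix : (h - 1).rank = b) : a * b ≤ (g ⊗ₖ h - 1).rank + 2 * a := by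
  have hr1 : 1 ≤ r := (Fact.out : r.Prime).one_lt.le
  set T : Module.End F (Fin b → F) := Matrix.toLinAlgEquiv' hᵀ with hTdef
  have hTa : ∀ u, T u = hᵀ *ᵥ u := fun u => rfl
  have hT : T ^ r = 1 := by rw [← map_pow, ← Matrix.transpose_pow, hh, Matrix.transpose_one, map_one]
  have hTfix : ∀ v, T v = v → v = 0 := by
    intro v hv
    have hker : LinearMap.ker (hᵀ - 1).mulVecLin = ⊥ := by
      rw [← Submodule.finrank_eq_zero]
      have := LinearMap.finrank_range_add_finrank_ker (hᵀ - 1).mulVecLin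
      have hrk : finrank F ↥(LinearMap.range (hᵀ - 1).mulVecLin) = b := by
        show (hᵀ - 1).rank = b
        rw [← Matrix.transpose_one, ← Matrix.transpose_sub, Matrix.rank_transpose, hfix]
      rw [hrk, Module.finrank_fin_fun] at this
      omega
    refine (Submodule.mem_bot F).1 (hker ▸ ?_)
    rw [LinearMap.mem_ker, Matrix.mulVecLin_apply, Matrix.sub_mulVec, Matrix.one_mulVec, ← hTa, hv, sub_self]
  obtain ⟨v, w, hgen⟩ := exists_two_generators hq hi T hT hTfix (by rw [Module.finrank_fin_fun]; exact hb)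
  set K := g ⊗ₖ h
  let M : (Fin a × Fin b → F) →ₗ[F] Matrix (Fin a) (Fin b) F :=
    { toFun := fun X => Matrix.of fun i j => X (i, j)
      map_add' := fun X Y => rfl
      map_smul' := fun s X => rfl }
  let L : LinearMap.ker (K - 1).mulVecLin →ₗ[F] (Fin a → F) × (Fin a → F) :=
    { toFun := fun X => (M X *ᵥ v, M X *ᵥ w)
      map_add' := fun X Y => by simp [Matrix.add_mulVec]
      map_smul' := fun s X => by simp [Matrix.smul_mulVec] }
  have hK : ∀ X, M (K *ᵥ X) = g * M X * hᵀ := fun X => by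
    ext i j
    change (K *ᵥ X) (i, j) = (g * (Matrix.of fun i j => X (i, j)) * hᵀ) i j
    simp only [K, Matrix.mulVec, dotProduct, Fintype.sum_prod_type, Matrix.kroneckerMap_apply, Matrix.of_apply,
      Matrix.mul_apply, Matrix.transpose_apply, Finset.sum_mul]
    rw [Finset.sum_comm]
    exact Finset.sum_congr rfl fun _ _ => Finset.sum_congr rfl fun _ _ => by ring
  have hL : Function.Injective L := by
    refine (injective_iff_map_eq_zero _).2 fun X hX => ?_
    have hfixX : g * M X.1 * hᵀ = M X.1 := by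
      rw [← hK]
      congr 1
      have := X.2
      rwa [LinearMap.mem_ker, Matrix.mulVecLin_apply, Matrix.sub_mulVec, Matrix.one_mulVec, sub_eq_zero] at this
    have hinv : M X.1 * hᵀ = g ^ (r - 1) * M X.1 := by
      conv_rhs => rw [← hfixX]
      simp only [← Matrix.mul_assoc]
      rw [← pow_succ, Nat.sub_add_cancel hr1, hg, Matrix.one_mul]
    have hU : (LinearMap.ker (M X.1).mulVecLin).map T ≤ LinearMap.ker (M X.1).mulVecLin := by
      rintro _ ⟨u, hu, rfl⟩
      rw [SetLike.mem_coe, LinearMap.mem_ker, Matrix.mulVecLin_apply] at hu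
      rw [LinearMap.mem_ker, Matrix.mulVecLin_apply, hTa, Matrix.mulVec_mulVec, hinv, ← Matrix.mulVec_mulVec, hu,
        Matrix.mulVec_zero]
    have htop := hgen _ hU (congrArg Prod.fst hX) (congrArg Prod.snd hX)
    refine Subtype.ext (funext fun ij => ?_)
    have := LinearMap.mem_ker.1 (htop ▸ Submodule.mem_top : Pi.single ij.2 1 ∈ LinearMap.ker (M X.1).mulVecLin)
    rw [Matrix.mulVecLin_apply, Matrix.mulVec_single_one] at this
    exact congrFun this ij.1
  have h1 := LinearMap.finrank_le_finrank_of_injective hL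
  have h2 := LinearMap.finrank_range_add_finrank_ker (K - 1).mulVecLin
  rw [Module.finrank_prod, Module.finrank_fin_fun] at h1
  rw [Module.finrank_fintype_fun_eq_card, Fintype.card_prod, Fintype.card_fin, Fintype.card_fin,
    show finrank F ↥(LinearMap.range (K - 1).mulVecLin) = (K - 1).rank from rfl] at h2
  omega

end CfsgLib.TensorSympOrth
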